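import Mathlib
import Cfsg.Agent.Coh.Sec5c
import Cfsg.Agent.Coh.Sec7c

/-!
Peterfalvi, section 7: see `Sec7a`, `Sec7b`, `Sec7c`.
-/
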